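import Cfsg.Agent.H698.U33.Tab18
import Cfsg.Agent.H698.U33.Bridge

/-!
# S5525: the 18 letters as words in `τ, w4, w5`: the tables (helper698)
-/

set_option autoImplicit false

namespace Cfsg.Agent.H698.U33

open Cfsg.Agent.H763.U33.Dat (tabs)

/-- the words in `τ, w4, w5` (0, 1, 2; inverses 3, 4, 5) -/
def sw18 : List (List ℕ) := [[0],
  [4, 2, 4, 0, 2, 4, 5, 1, 0, 1, 3, 5, 1, 0, 4, 5, 3, 4, 0, 4, 5, 1, 0, 5, 4, 2, 4],
  [2, 1, 2, 4, 2, 1, 3, 1, 2, 4, 2, 1, 0, 4, 5, 1, 5, 4, 3],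
  [1, 2, 1, 5, 4, 0, 2, 1, 2, 4, 5, 1, 0, 1, 2, 4, 5, 4, 3, 4, 4, 3],
  [1, 2, 4, 5, 1, 2, 3, 4, 5, 1, 2, 4, 3, 4, 2, 1, 5, 4, 3],
  [2, 2, 3, 1, 1, 2, 2, 1, 1, 0],
  [0, 2, 1, 1, 0, 1, 2, 1, 2, 4, 0, 2, 4, 5, 1, 5, 4, 3],
  [1, 5, 1, 2, 1, 2, 3, 1, 2, 1, 5, 1, 3, 4, 2, 4, 5, 4, 3],
  [2, 1, 2, 4, 5, 4, 0, 1, 2, 4, 5, 1, 0, 1, 2, 4, 5, 4, 3, 4, 4, 3],
  [0, 2, 1, 0, 1, 1, 3, 4, 3, 5],
  [0, 1, 1, 2, 3, 1, 5, 4, 2, 4, 3, 1, 1, 0],
  [0, 1, 1, 2, 3, 1, 5, 1, 2, 3, 1, 1, 0, 1],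
  [2, 3, 1, 2, 1, 5, 4, 3, 1, 2, 2, 4, 0, 1, 5, 5, 4],
  [0, 1, 1, 0, 1, 2, 1, 5, 4, 0, 2, 1, 1],
  [0, 1, 1, 5, 1, 1, 3, 1, 1, 2, 1, 1],
  [1, 1, 2, 2, 1, 1, 2, 3, 4, 2, 4, 5, 1, 0],
  [1],
  [2]]

theorem sw18_valid : ∀ k < 18, Valid 3 (sw18.getD k []) := by
  have h : ((List.range 18).all fun k => validb 3 (sw18.getD k [])) = true := by decide +kernel
  exact fun k hk => valid_of (List.all_eq_true.1 h k (List.mem_range.2 hk))

set_option maxRecDepth 100000 in
theorem e18_0 : extb1 3510 tabs (sw18.getD 0 []) (ps18.getD 0 0) = true := by decide +kernel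

set_option maxRecDepth 100000 in
theorem e18_1 : extb1 3510 tabs (sw18.getD 1 []) (ps18.getD 1 0) = true := by decide +kernel

set_option maxRecDepth 100000 in
theorem e18_2 : extb1 3510 tabs (sw18.getD 2 []) (ps18.getD 2 0) = true := by decide +kernel

set_option maxRecDepth 100000 in
theorem e18_3 : extb1 3510 tabs (sw18.getD 3 []) (ps18.getD 3 0) = true := by decide +kernel

set_option maxRecDepth 100000 in
theorem e18_4 : extb1 3510 tabs (sw18.getD 4 []) (ps18.getD 4 0) = true := by decide +kernel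

set_option maxRecDepth 100000 in
theorem e18_5 : extb1 3510 tabs (sw18.getD 5 []) (ps18.getD 5 0) = true := by decide +kernel

set_option maxRecDepth 100000 in
theorem e18_6 : extb1 3510 tabs (sw18.getD 6 []) (ps18.getD 6 0) = true := by decide +kernel

set_option maxRecDepth 100000 in
theorem e18_7 : extb1 3510 tabs (sw18.getD 7 []) (ps18.getD 7 0) = true := by decide +kernel

set_option maxRecDepth 100000 in
theorem e18_8 : extb1 3510 tabs (sw18.getD 8 []) (ps18.getD 8 0) = true := by decide +kernel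

set_option maxRecDepth 100000 in
theorem e18_9 : extb1 3510 tabs (sw18.getD 9 []) (ps18.getD 9 0) = true := by decide +kernel

set_option maxRecDepth 100000 in
theorem e18_10 : extb1 3510 tabs (sw18.getD 10 []) (ps18.getD 10 0) = true := by decide +kernel

set_option maxRecDepth 100000 in
theorem e18_11 : extb1 3510 tabs (sw18.getD 11 []) (ps18.getD 11 0) = true := by decide +kernel

set_option maxRecDepth 100000 in
theorem e18_12 : extb1 3510 tabs (sw18.getD 12 []) (ps18.getD 12 0) = true := by decide +kernel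

set_option maxRecDepth 100000 in
theorem e18_13 : extb1 3510 tabs (sw18.getD 13 []) (ps18.getD 13 0) = true := by decide +kernel

set_option maxRecDepth 100000 in
theorem e18_14 : extb1 3510 tabs (sw18.getD 14 []) (ps18.getD 14 0) = true := by decide +kernel

set_option maxRecDepth 100000 in
theorem e18_15 : extb1 3510 tabs (sw18.getD 15 []) (ps18.getD 15 0) = true := by decide +kernel

set_option maxRecDepth 100000 in
theorem e18_16 : extb1 3510 tabs (sw18.getD 16 []) (ps18.getD 16 0) = true := by decide +kernel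

set_option maxRecDepth 100000 in
theorem e18_17 : extb1 3510 tabs (sw18.getD 17 []) (ps18.getD 17 0) = true := by decide +kernel

theorem ext18 : ∀ k < 18, extb1 3510 tabs (sw18.getD k []) (ps18.getD k 0) = true := by
  intro k hk
  interval_cases k
  · exact e18_0
  · exact e18_1
  · exact e18_2
  · exact e18_3
  · exact e18_4
  · exact e18_5
  · exact e18_6
  · exact e18_7
  · exact e18_8
  · exact e18_9
  · exact e18_10
  · exact e18_11
  · exact e18_12
  · exact e18_13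
  · exact e18_14
  · exact e18_15
  · exact e18_16
  · exact e18_17

end Cfsg.Agent.H698.U33
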